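import Groth.Agent.AxGrothLib.Noeth
import Groth.Agent.ConsLib.General
import Groth.Agent.DescFP.Hom
import Groth.Agent.S2579

/-!
# Monomorphic endomorphisms of schemes of finite presentation
-/

set_option autoImplicit false
set_option linter.all false
set_option backward.isDefEq.respectTransparency false

universe u

open CategoryTheory CategoryTheory.Limits AlgebraicGeometry RichLib.LimBC Groth.Agent

noncomputable section

namespace AxGroth

attribute [local instance] ConsLib.zAlgebra

theorem isIso_affine {X S : Scheme.{u}} [IsAffine S] (f : X ⟶ S) [LocallyOfFinitePresentation f] [QuasiCompact f]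
    [QuasiSeparated f] (g : X ⟶ X) (hg : g ≫ f = f) [Mono g] : IsIso g := by
  let A := ConsLib.zSys (Γ(S, ⊤) : Type u)
  haveI : ∀ i j (a : i ⟶ j), IsAffineHom (A.D.map a) := fun _ _ a => A.affine_map a
  haveI : ∀ i, IsNoetherian (A.D.obj i) := fun i => ConsLib.zSys_obj _ i
  let e : S ≅ A.c.pt := S.isoSpec ≪≫ (ConsLib.zSysIso _).symm
  obtain ⟨i, ⟨M⟩⟩ := DescFP.exists_model A.hc (f ≫ e.hom)
  haveI := M.lfp; haveI := M.qc; haveI := M.qs
  haveI := M.compactSpace
  haveI := M.quasiSeparatedSpace
  obtain ⟨j, φ, fj, sX, sY, hfj, hX1, hX2, hY1, hY2, hcomm⟩ :=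
    DescFP.exists_hom_descend A.hc M.p M.p M.g (f ≫ e.hom) M.sq M.g (f ≫ e.hom) M.sq g
      (by rw [← Category.assoc, hg])
  let N := M.push φ
  haveI := N.lfp; haveI := N.qc; haveI := N.qs
  have hsX : sX = N.g := M.push_hom_ext φ (hX1.trans (M.push_g_fst φ).symm) (hX2.trans N.sq.w.symm)
  have hsY : sY = N.g := M.push_hom_ext φ (hY1.trans (M.push_g_fst φ).symm) (hY2.trans N.sq.w.symm)
  subst hsX
  subst hsY
  let fN : N.Z ⟶ N.Z := fj
  have hfN : fN ≫ N.p = N.p := hfj
  have hsq : IsPullback N.g g fN N.g := by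
    refine IsPullback.of_bot ?_ hcomm N.sq
    rw [← Category.assoc, hg, hfN]
    exact N.sq
  haveI : LocallyOfFinitePresentation (fN ≫ N.p) := by rw [hfN]; infer_instance
  haveI : QuasiCompact (fN ≫ N.p) := by rw [hfN]; infer_instance
  haveI : QuasiSeparated (fN ≫ N.p) := by rw [hfN]; infer_instance
  obtain ⟨l, ψ, Xi, Yi, fi, gi, pY, pX, hYi, hXi, hmono⟩ :=
    Groth.Agent.S2579.result A.D A.c A.hc j fN N.p g (f ≫ e.hom) N.g N.g N.sq hsq
  haveI := hmono
  have hXp : IsPullback pX (fi ≫ gi) N.p (A.D.map ψ) := by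
    have h := hXi.paste_vert hYi
    rwa [hfN] at h
  let σ : Yi ≅ Xi := hYi.isoIsPullback _ _ hXp
  have hσ1 : σ.hom ≫ pX = pY := IsPullback.isoIsPullback_hom_fst _ _ _ _
  have hσ2 : σ.hom ≫ fi ≫ gi = gi := IsPullback.isoIsPullback_hom_snd _ _ _ _
  let h : Yi ⟶ Yi := σ.hom ≫ fi
  haveI : Mono h := mono_comp _ _
  haveI : LocallyOfFiniteType (A.t l) := ConsLib.locallyOfFiniteType_fgSys_t _ _ _ l
  haveI := A.affine l
  haveI : LocallyOfFiniteType gi := MorphismProperty.of_isPullback hYi inferInstance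
  haveI : QuasiCompact gi := MorphismProperty.of_isPullback hYi inferInstance
  haveI : QuasiSeparated gi := MorphismProperty.of_isPullback hYi inferInstance
  haveI hh : IsIso h := isIso_int (gi ≫ A.t l) h
  let s : X ⟶ Yi := hYi.lift N.g (f ≫ e.hom ≫ A.c.π.app l) (by
    simp only [N.sq.w, Category.assoc, A.c.w])
  have hs1 : s ≫ pY = N.g := hYi.lift_fst _ _ _
  have hs2 : s ≫ gi = f ≫ e.hom ≫ A.c.π.app l := hYi.lift_snd _ _ _
  have hrow : IsPullback pY h fN pY :=
    hXi.of_iso σ.symm (Iso.refl _) (Iso.refl _) (Iso.refl _) (by simp [hσ1.symm]) (by simp [h]) (by simp) (by simp)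
  have hout : IsPullback (s ≫ pY) g fN (s ≫ pY) := by rw [hs1]; exact hsq
  have hcomm' : s ≫ h = g ≫ s := by
    apply hYi.hom_ext
    · refine ((Category.assoc s h pY).trans (congrArg (s ≫ ·) hrow.w.symm)).trans ?_
      rw [← Category.assoc, hs1, Category.assoc, hs1]
      exact hsq.w
    · refine ((Category.assoc s h gi).trans (congrArg (s ≫ ·) ((Category.assoc _ _ _).trans hσ2))).trans ?_
      rw [Category.assoc, hs2, reassoc_of% hg]
  exact MorphismProperty.of_isPullback (P := MorphismProperty.isomorphisms Scheme.{u})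
    (IsPullback.of_right hout hcomm' hrow) hh

theorem isIso_of_mono {X S : Scheme.{u}} (f : X ⟶ S) [LocallyOfFinitePresentation f] [QuasiCompact f]
    [QuasiSeparated f] (g : X ⟶ X) (hg : g ≫ f = f) [Mono g] : IsIso g := by
  refine IsZariskiLocalAtTarget.of_openCover (P := MorphismProperty.isomorphisms Scheme.{u})
    (S.affineCover.pullback₁ f) fun i => ?_
  let u := S.affineCover.f i
  let gU : pullback f u ⟶ pullback f u := pullback.lift (pullback.fst f u ≫ g) (pullback.snd f u)
    (by rw [Category.assoc, hg, pullback.condition])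
  have hsq : IsPullback (pullback.fst f u) gU g (pullback.fst f u) :=
    IsPullback.of_bot (by rw [pullback.lift_snd, hg]; exact IsPullback.of_hasPullback f u)
      (pullback.lift_fst _ _ _).symm (IsPullback.of_hasPullback f u)
  haveI : Mono gU := MorphismProperty.of_isPullback (P := MorphismProperty.monomorphisms Scheme.{u}) hsq ‹Mono g›
  haveI : IsIso gU := isIso_affine (pullback.snd f u) gU (pullback.lift_snd _ _ _)
  show IsIso (pullback.snd g (pullback.fst f u))
  rw [← hsq.isoPullback_inv_snd]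
  infer_instance

end AxGroth
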