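import Groth.Agent.S4886
import Groth.Agent.OrbitLib.Infinitesimal
import Groth.Agent.MultHomLib.Desc
import Mathlib

/-!
# Monomorphic endomorphisms of schemes of finite type over the integers
-/

set_option autoImplicit false
set_option linter.all false
set_option backward.isDefEq.respectTransparency false

universe u

open CategoryTheory CategoryTheory.Limits AlgebraicGeometry IsLocalRing Topology

noncomputable section

namespace AxGroth

attribute [local instance] PointCount.isJacobsonRing_int

instance noeth_uliftInt : IsNoetherianRing (ULift.{u} ℤ) := isNoetherianRing_of_ringEquiv ℤ ULift.ringEquiv.symm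

instance jacobson_uliftInt : IsJacobsonRing (ULift.{u} ℤ) :=
  (isJacobsonRing_iso (ULift.ringEquiv.symm : ℤ ≃+* ULift.{u} ℤ)).1 inferInstance

/-- A nonempty constructible subset of a Jacobson space contains a closed point. -/
theorem exists_closedPoint_of_isConstructible {X : Type*} [TopologicalSpace X] [JacobsonSpace X] {s : Set X}
    (hs : Topology.IsConstructible s) (hne : s.Nonempty) : ∃ x ∈ s, x ∈ closedPoints X := by
  have key : ∀ x : X, (x ∈ s → ∃ U : Set X, IsOpen U ∧ x ∈ U ∧ closure {x} ∩ U ⊆ s) ∧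
      (x ∉ s → ∃ U : Set X, IsOpen U ∧ x ∈ U ∧ closure {x} ∩ U ⊆ sᶜ) := by
    clear hne
    induction hs using Topology.IsConstructible.empty_union_induction with
    | open_retrocompact U hU _ =>
      refine fun x => ⟨fun hx => ⟨U, hU, hx, Set.inter_subset_right⟩,
        fun hx => ⟨Set.univ, isOpen_univ, trivial, fun y hy hyU => hx ?_⟩⟩
      obtain ⟨_, hz, rfl⟩ := mem_closure_iff.1 hy.1 U hU hyU
      exact hz
    | union s _ t _ hs ht =>
      refine fun x => ⟨?_, fun hx => ?_⟩
      · rintro (hx | hx)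
        · obtain ⟨U, h1, h2, h3⟩ := (hs x).1 hx
          exact ⟨U, h1, h2, h3.trans Set.subset_union_left⟩
        · obtain ⟨U, h1, h2, h3⟩ := (ht x).1 hx
          exact ⟨U, h1, h2, h3.trans Set.subset_union_right⟩
      · obtain ⟨U, h1, h2, h3⟩ := (hs x).2 fun h => hx (Or.inl h)
        obtain ⟨V, g1, g2, g3⟩ := (ht x).2 fun h => hx (Or.inr h)
        refine ⟨U ∩ V, h1.inter g1, ⟨h2, g2⟩, fun y hy hst => hst.elim ?_ ?_⟩
        · exact fun h => h3 ⟨hy.1, hy.2.1⟩ h
        · exact fun h => g3 ⟨hy.1, hy.2.2⟩ h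
    | compl s _ hs =>
      refine fun x => ⟨(hs x).2, fun hx => ?_⟩
      rw [compl_compl]
      exact (hs x).1 (not_not.1 hx)
  obtain ⟨x, hx⟩ := hne
  obtain ⟨U, hU, hxU, hsub⟩ := (key x).1 hx
  obtain ⟨y, hy, hyc⟩ := nonempty_inter_closedPoints (Z := closure {x} ∩ U) ⟨x, subset_closure rfl, hxU⟩
    (isClosed_closure.isLocallyClosed.inter hU.isLocallyClosed)
  exact ⟨y, hsub hy, hyc⟩

variable {X : Scheme.{u}}

theorem finiteType_int_sections (f : X ⟶ Spec (CommRingCat.of (ULift.{u} ℤ))) [LocallyOfFiniteType f]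
    (U : X.affineOpens) : Algebra.FiniteType ℤ Γ(X, U.1) := by
  have h := f.finiteType_appLE (U := ⊤) (isAffineOpen_top _) U.2 (by simp)
  have e : RingHom.FiniteType
      ((Scheme.ΓSpecIso (CommRingCat.of (ULift.{u} ℤ))).inv.hom.comp (ULift.ringEquiv.symm.toRingHom)) :=
    RingHom.FiniteType.of_surjective _
      ((Scheme.ΓSpecIso (CommRingCat.of (ULift.{u} ℤ))).symm.commRingCatIsoToRingEquiv.surjective.comp
        ULift.ringEquiv.symm.surjective)
  have h2 := h.comp e
  rwa [RingHom.finiteType_algebraMap.symm, Subsingleton.elim (algebraMap ℤ Γ(X, U.1)) _]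

/-- A scheme of finite type over the integers has finitely many points in each finite local ring. -/
theorem finite_spec_hom (f : X ⟶ Spec (CommRingCat.of (ULift.{u} ℤ))) [LocallyOfFiniteType f] [QuasiCompact f]
    (R : Type u) [CommRing R] [Finite R] [IsLocalRing R] : Finite (Spec (CommRingCat.of R) ⟶ X) := by
  haveI : CompactSpace X := QuasiCompact.compactSpace_of_compactSpace f
  let 𝒰 := X.affineCover.finiteSubcover
  let U : 𝒰.I₀ → X.affineOpens := fun i => ⟨(𝒰.f i).opensRange, isAffineOpen_opensRange (𝒰.f i)⟩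
  haveI : ∀ i, IsOpenImmersion (U i).2.fromSpec := fun i => (U i).2.isOpenImmersion_fromSpec
  haveI : ∀ i, Finite (Γ(X, (U i).1) →+* R) := fun i => by
    haveI := finiteType_int_sections f (U i)
    exact Groth.Agent.S4886.hom_finite _ _
  let G : (Σ i, (Γ(X, (U i).1) →+* R)) → (Spec (CommRingCat.of R) ⟶ X) := fun z =>
    Spec.map (CommRingCat.ofHom z.2) ≫ (U z.1).2.fromSpec
  refine Finite.of_surjective G fun g => ?_
  obtain ⟨i, hi⟩ : ∃ i, g.base (IsLocalRing.closedPoint R) ∈ (U i).1 := ⟨_, 𝒰.covers _⟩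
  have hr' : Set.range g.base ⊆ Set.range (U i).2.fromSpec.base := by
    rintro _ ⟨z, rfl⟩
    rw [(U i).2.range_fromSpec]
    exact ((IsLocalRing.specializes_closedPoint z).map g.continuous).mem_open (U i).1.2 hi
  refine ⟨⟨i, (Spec.preimage (IsOpenImmersion.lift (U i).2.fromSpec g hr')).hom⟩, ?_⟩
  show Spec.map (CommRingCat.ofHom _) ≫ _ = _
  rw [CommRingCat.ofHom_hom, Spec.map_preimage, IsOpenImmersion.lift_fac]

theorem finite_residueField (f : X ⟶ Spec (CommRingCat.of (ULift.{u} ℤ))) [LocallyOfFiniteType f]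
    {x : X} (hx : IsClosed ({x} : Set X)) : Finite (X.residueField x) := by
  haveI : JacobsonSpace X := LocallyOfFiniteType.jacobsonSpace f
  haveI : LocallyOfFiniteType (X.fromSpecResidueField x) := isClosed_singleton_iff_locallyOfFiniteType.1 hx
  haveI : LocallyOfFiniteType (X.fromSpecResidueField x ≫ f) := inferInstance
  rw [specULiftZIsTerminal.hom_ext (X.fromSpecResidueField x ≫ f)
    (Limits.IsTerminal.from specULiftZIsTerminal _)] at this
  haveI : Algebra.FiniteType ℤ (X.residueField x) := (Groth.Agent.S4886.spec_finiteType_iff _).1 this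
  exact Groth.Agent.S4886.field_finite _

theorem finite_stalk_quotient (f : X ⟶ Spec (CommRingCat.of (ULift.{u} ℤ))) [LocallyOfFiniteType f]
    {x : X} (hx : IsClosed ({x} : Set X)) (n : ℕ) :
    Finite (X.presheaf.stalk x ⧸ maximalIdeal (X.presheaf.stalk x) ^ n) := by
  haveI : IsLocallyNoetherian X := LocallyOfFiniteType.isLocallyNoetherian f
  haveI : Finite (X.presheaf.stalk x ⧸ maximalIdeal (X.presheaf.stalk x)) := finite_residueField f hx
  exact Ideal.finite_quotient_pow ((maximalIdeal (X.presheaf.stalk x)).fg_of_isNoetherianRing) n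

variable (f : X ⟶ Spec (CommRingCat.of (ULift.{u} ℤ))) [LocallyOfFiniteType f] [QuasiCompact f]
  (g : X ⟶ X) [Mono g]

include f in
/-- Points in finite local rings lift along a monomorphic endomorphism. -/
theorem exists_lift (R : Type u) [CommRing R] [Finite R] [IsLocalRing R] (t : Spec (CommRingCat.of R) ⟶ X) :
    ∃ u : Spec (CommRingCat.of R) ⟶ X, u ≫ g = t := by
  haveI := finite_spec_hom f R
  exact (Finite.injective_iff_surjective (f := fun u : Spec (CommRingCat.of R) ⟶ X => u ≫ g)).1
    (fun a b h => (cancel_mono g).1 h) t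

include f in
theorem surjective : Surjective g := by
  haveI : JacobsonSpace X := LocallyOfFiniteType.jacobsonSpace f
  haveI : IsLocallyNoetherian X := LocallyOfFiniteType.isLocallyNoetherian f
  haveI : CompactSpace X := QuasiCompact.compactSpace_of_compactSpace f
  haveI : IsNoetherian X := ⟨⟩
  haveI : LocallyOfFiniteType (g ≫ f) := by
    rw [specULiftZIsTerminal.hom_ext (g ≫ f) f]; infer_instance
  haveI : LocallyOfFiniteType g := locallyOfFiniteType_of_comp g f
  haveI : LocallyOfFinitePresentation g := UOpenLib.locallyOfFinitePresentation_of_isLocallyNoetherian _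
  have hcons : IsConstructible (Set.range g.base)ᶜ := (g.isConstructible_image Topology.IsConstructible.univ |>.compl) |> fun h => by rwa [Set.image_univ] at h
  refine ⟨fun x => ?_⟩
  by_contra hx
  obtain ⟨p, hpC, hp⟩ := exists_closedPoint_of_isConstructible hcons ⟨x, hx⟩
  haveI := finite_residueField f hp
  obtain ⟨v, hv⟩ := exists_lift f g (X.residueField p) (X.fromSpecResidueField p)
  refine hpC ⟨v.base (closedPoint _), ?_⟩
  rw [← Scheme.Hom.comp_apply, hv]
  exact Scheme.fromSpecResidueField_apply _ _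

include f in
/-- The endomorphism is flat at closed points. -/
theorem flatAt_closed {y : X} (hy : IsClosed ({y} : Set X)) : (g.stalkMap y).hom.Flat := by
  haveI : JacobsonSpace X := LocallyOfFiniteType.jacobsonSpace f
  haveI : IsLocallyNoetherian X := LocallyOfFiniteType.isLocallyNoetherian f
  haveI : LocallyOfFiniteType (g ≫ f) := by
    rw [specULiftZIsTerminal.hom_ext (g ≫ f) f]; infer_instance
  haveI : LocallyOfFiniteType g := locallyOfFiniteType_of_comp g f
  have hx : IsClosed ({g.base y} : Set X) := g.closePoints_subset_preimage_closedPoints (mem_closedPoints_iff.2 hy)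
  algebraize [(g.stalkMap y).hom]
  haveI : IsLocalHom (algebraMap (X.presheaf.stalk (g y)) (X.presheaf.stalk y)) := g.toLRSHom.prop y
  refine OrbitLib.flat_of_bijective_pow (X.presheaf.stalk (g y)) (X.presheaf.stalk y) fun n => ?_
  let R := (X.presheaf.stalk (g y)) ⧸ maximalIdeal (X.presheaf.stalk (g y)) ^ (n + 1)
  haveI : Finite R := finite_stalk_quotient f hx (n + 1)
  have hne : maximalIdeal (X.presheaf.stalk (g y)) ^ (n + 1) ≠ ⊤ :=
    ne_top_of_le_ne_top (IsLocalRing.maximalIdeal.isMaximal (X.presheaf.stalk (g y))).ne_top (Ideal.pow_le_self (Nat.succ_ne_zero n))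
  haveI : Nontrivial R := Ideal.Quotient.nontrivial_iff.2 hne
  haveI : IsLocalRing R := IsLocalRing.of_surjective' (Ideal.Quotient.mk _) Ideal.Quotient.mk_surjective
  haveI hmkl : IsLocalHom (Ideal.Quotient.mk (maximalIdeal (X.presheaf.stalk (g y)) ^ (n + 1))) :=
    IsLocalHom.of_surjective _ Ideal.Quotient.mk_surjective
  obtain ⟨v, hv⟩ := exists_lift f g R (Spec.map (CommRingCat.ofHom (Ideal.Quotient.mk _)) ≫ X.fromSpecStalk (g y))
  obtain ⟨⟨y', ψ, hψ⟩, rfl⟩ := (SpecToEquivOfLocalRing X (CommRingCat.of R)).symm.surjective v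
  have hyy : y = y' := (g.injective (by
    have h1 := congrArg (fun q : Spec (CommRingCat.of R) ⟶ X => q.base (closedPoint R)) hv
    simp only [SpecToEquivOfLocalRing, Equiv.coe_fn_symm_mk, Category.assoc, Scheme.Hom.comp_base,
      TopCat.coe_comp, Function.comp_apply] at h1
    rw [Spec_closedPoint, Spec_closedPoint] at h1
    exact ((congrArg g.base Scheme.fromSpecStalk_closedPoint).symm.trans h1).trans Scheme.fromSpecStalk_closedPoint)).symm
  subst hyy
  have hφψ : g.stalkMap y ≫ ψ = CommRingCat.ofHom (Ideal.Quotient.mk (maximalIdeal (X.presheaf.stalk (g y)) ^ (n + 1))) := by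
    apply Spec.map_injective
    rw [← cancel_mono (X.fromSpecStalk (g y)), Spec.map_comp, Category.assoc, Scheme.SpecMap_stalkMap_fromSpecStalk]
    exact (Category.assoc _ _ _).symm.trans hv
  have hψa : ∀ a, ψ.hom (algebraMap (X.presheaf.stalk (g y)) (X.presheaf.stalk y) a) = Ideal.Quotient.mk (maximalIdeal (X.presheaf.stalk (g y)) ^ (n + 1)) a := fun a =>
    congr($(hφψ) a)
  have hmR : maximalIdeal R ^ (n + 1) = ⊥ := by
    have : maximalIdeal R = (maximalIdeal (X.presheaf.stalk (g y))).map (Ideal.Quotient.mk (maximalIdeal (X.presheaf.stalk (g y)) ^ (n + 1))) := by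
      rw [← IsLocalRing.eq_maximalIdeal ((Ideal.map_eq_top_or_isMaximal_of_surjective _ Ideal.Quotient.mk_surjective
        (IsLocalRing.maximalIdeal.isMaximal (X.presheaf.stalk (g y)))).resolve_left fun h => ?_)]
      have := congrArg (Ideal.comap (Ideal.Quotient.mk (maximalIdeal (X.presheaf.stalk (g y)) ^ (n + 1)))) h
      rw [Ideal.comap_map_of_surjective _ Ideal.Quotient.mk_surjective, Ideal.comap_top, ← RingHom.ker_eq_comap_bot,
        Ideal.mk_ker, sup_eq_left.2 (Ideal.pow_le_self (Nat.succ_ne_zero n))] at this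
      exact (IsLocalRing.maximalIdeal.isMaximal (X.presheaf.stalk (g y))).ne_top this
    rw [this, ← Ideal.map_pow, Ideal.map_quotient_self]
  have hloc : (maximalIdeal (X.presheaf.stalk (g y))).map (algebraMap (X.presheaf.stalk (g y)) (X.presheaf.stalk y)) ≤ maximalIdeal (X.presheaf.stalk y) :=
    ((IsLocalRing.local_hom_TFAE (algebraMap (X.presheaf.stalk (g y)) (X.presheaf.stalk y))).out 0 2).1 (g.toLRSHom.prop y)
  have hψm : ∀ b ∈ maximalIdeal (X.presheaf.stalk y) ^ (n + 1), ψ.hom b = 0 := fun b hb => by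
    have h1 : (maximalIdeal (X.presheaf.stalk y)).map ψ.hom ≤ maximalIdeal R :=
      ((IsLocalRing.local_hom_TFAE ψ.hom).out 0 2).1 hψ
    have h2 := Ideal.mem_map_of_mem ψ.hom hb
    rw [Ideal.map_pow] at h2
    have h3 := Ideal.pow_right_mono h1 (n + 1) h2
    rwa [hmR, Ideal.mem_bot] at h3
  have hle : ∀ a ∈ maximalIdeal (X.presheaf.stalk (g y)) ^ (n + 1), algebraMap (X.presheaf.stalk (g y)) (X.presheaf.stalk y) a ∈ maximalIdeal (X.presheaf.stalk y) ^ (n + 1) := fun a ha => by
    have h2 := Ideal.mem_map_of_mem (algebraMap (X.presheaf.stalk (g y)) (X.presheaf.stalk y)) ha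
    rw [Ideal.map_pow] at h2
    exact Ideal.pow_right_mono hloc (n + 1) h2
  refine ⟨fun b' => ?_, fun a => ⟨fun ha => ?_, hle a⟩⟩
  · obtain ⟨b, rfl⟩ := Ideal.Quotient.mk_surjective b'
    obtain ⟨a, ha⟩ := Ideal.Quotient.mk_surjective (ψ.hom b)
    refine ⟨a, ?_⟩
    let χ : R →+* (X.presheaf.stalk y) ⧸ maximalIdeal (X.presheaf.stalk y) ^ (n + 1) :=
      Ideal.Quotient.lift _ ((Ideal.Quotient.mk _).comp (algebraMap (X.presheaf.stalk (g y)) (X.presheaf.stalk y))) fun a ha =>
        Ideal.Quotient.eq_zero_iff_mem.2 (hle a ha)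
    have key : ψ ≫ CommRingCat.ofHom χ = CommRingCat.ofHom (Ideal.Quotient.mk (maximalIdeal (X.presheaf.stalk y) ^ (n + 1))) := by
      apply Spec.map_injective
      rw [← cancel_mono (X.fromSpecStalk y), ← cancel_mono g, Category.assoc, Category.assoc,
        ← Scheme.SpecMap_stalkMap_fromSpecStalk, ← Spec.map_comp_assoc, ← Spec.map_comp_assoc]
      congr 2
      ext c
      show χ (ψ.hom (algebraMap (X.presheaf.stalk (g y)) (X.presheaf.stalk y) c)) = _
      rw [hψa]
      rfl
    have := congr($(key) b)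
    refine Eq.trans ?_ this
    show _ = χ (ψ.hom b)
    rw [← ha]
    rfl
  · rw [← Ideal.Quotient.eq_zero_iff_mem, ← hψa]
    exact hψm _ ha

end AxGroth

namespace AxGroth

variable {X : Scheme.{u}}

/-- A monomorphic endomorphism of a scheme of finite type over the integers is an isomorphism. -/
theorem isIso_int (f : X ⟶ Spec (CommRingCat.of (ULift.{u} ℤ))) [LocallyOfFiniteType f] [QuasiCompact f]
    [QuasiSeparated f] (g : X ⟶ X) [Mono g] : IsIso g := by
  haveI : JacobsonSpace X := LocallyOfFiniteType.jacobsonSpace f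
  haveI : IsLocallyNoetherian X := LocallyOfFiniteType.isLocallyNoetherian f
  haveI : LocallyOfFiniteType (g ≫ f) := by
    rw [specULiftZIsTerminal.hom_ext (g ≫ f) f]; infer_instance
  haveI : LocallyOfFiniteType g := locallyOfFiniteType_of_comp g f
  haveI : LocallyOfFinitePresentation g := UOpenLib.locallyOfFinitePresentation_of_isLocallyNoetherian _
  haveI : Flat g := by
    rw [Flat.iff_flat_stalkMap]
    intro z
    obtain ⟨y, hzy, hy⟩ := nonempty_inter_closedPoints (X := X) (Z := closure {z}) ⟨z, subset_closure rfl⟩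
      isClosed_closure.isLocallyClosed
    exact (specializes_iff_mem_closure.2 hzy).mem_open (FlatLib.isOpen_setOf_flat_stalkMap g) (flatAt_closed f g hy)
  haveI := surjective f g
  haveI : IsOpenImmersion g := IsOpenImmersion.of_flat_of_mono g
  exact isIso_of_isOpenImmersion_of_opensRange_eq_top g
    (TopologicalSpace.Opens.ext (Set.range_eq_univ.2 g.surjective))

end AxGroth
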